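import Cfsg.Agent.CSixNineU.Fix
import Cfsg.Agent.CSixNine.Centr

/-!
Centralisers of weight operators in an overgroup of similitudes.
-/

set_option autoImplicit false
set_option linter.unusedSectionVars false

namespace Cfsg.Agent.CSixNineU

open Matrix Cfsg.Agent.CSixNine
open scoped MatrixGroups Matrix Kronecker

variable {F : Type*} [Field F] {q : ℕ} {ω : F} {G : Subgroup (GL I9 F)}

namespace Gen

variable (hG : Gen q ω G)
include hG

lemma wordW_mem (a b c : ℕ) : InG G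
    ((tauM ω ^ a * fourM ω ^ b * tauM ω ^ c) ⊗ₖ (1 : Matrix K3 K3 F)) := by
  have := ((hG.lT.pow a).mul (hG.lF.pow b)).mul (hG.lT.pow c)
  rwa [kron_pow, kron_pow, kron_pow, kron_mul, kron_mul, Matrix.one_mul, Matrix.one_mul] at this

lemma wordW_induces (a b c : ℕ) :
    Induces ω (tauM ω ^ a * fourM ω ^ b * tauM ω ^ c) (Tt^[a] ∘ Tf^[b] ∘ Tt^[c]) := by
  have := ((Induces.pow (tau_P3 hG.om) a).mul (Induces.pow (four_P3 hG.om) b)).mul
    (Induces.pow (tau_P3 hG.om) c)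
  simpa [Function.comp_assoc] using this

lemma P9_mem (v : W9) : InG G (P9 ω v) := by
  have := (hG.lft_P v.1).mul (hG.rep_P v.2)
  rwa [kron_mul, Matrix.one_mul, Matrix.mul_one] at this

lemma swap_mem : Mem9 ω G swM := ⟨hG.swp, Nrm9.swap⟩

lemma cx_mem : Mem9 ω G (blk fun i => P3 ω (i, 0)) := ⟨hG.cx, Nrm9.cx hG.om⟩

end Gen

section Transitive

variable (hG : Gen q ω G)
include hG

lemma mv_fst {u v : K3 × K3} (hu : u ≠ 0) (hv : v ≠ 0) (x : K3 × K3) :
    Mv ω G (u, x) (v, x) := by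
  obtain ⟨a, b, c, habc⟩ := word_transitive u v hu hv
  have hI := hG.wordW_induces a b c
  refine ⟨_, ⟨hG.wordW_mem a b c, Nrm9.kron (Nrm3.of_induces hI) Nrm3.one⟩, ?_⟩
  obtain ⟨k, hk, e⟩ := hI u
  refine ⟨k, hk, ?_⟩
  rw [habc] at e
  simp only [P9, kron_mul, Matrix.one_mul, Matrix.mul_one, e, Matrix.smul_kronecker]

lemma mv_swap (u x : K3 × K3) : Mv ω G (u, x) (x, u) := by
  refine ⟨_, hG.swap_mem, 1, one_ne_zero, ?_⟩
  rw [one_smul, swM_mul, P9, P9, sw_kronecker]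

lemma mv_cx : Mv ω G ((0, 1), (2, 0)) ((0, 1), (0, 0)) := by
  have hcx := hG.cx_mem
  refine ⟨_, hcx, ?_⟩
  obtain ⟨w, c, hc, e⟩ := hcx.2 ((0, 1), (2, 0))
  refine ⟨1, one_ne_zero, ?_⟩
  rw [one_smul, cx_eq]
  ext ⟨i, j⟩ ⟨k, l⟩
  rw [Matrix.diagonal_mul, Matrix.mul_diagonal]
  simp only [P9, Matrix.kroneckerMap_apply, P3_apply]
  have key : ∀ k l : K3, (k + 1) * l + (0 * (k + 1) + 2 * l) = (0 * (k + 1) + 0 * l) + k * l := by
    decide
  by_cases h1 : i = k + 1
  · by_cases h2 : j = l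
    · subst h1 h2
      simp only [add_zero, if_pos, ← hG.om.wp_add]
      exact congrArg _ (key k j)
    · simp [h2]
  · simp [h1]

lemma mv_base {r : W9} (hr : r ≠ 0) : Mv ω G r ((1, 0), (0, 0)) := by
  obtain ⟨u, x⟩ := r
  have hone : ((1 : K3), (0 : K3)) ≠ 0 := by decide
  have hY : ((0 : K3), (1 : K3)) ≠ 0 := by decide
  have h2 : ((2 : K3), (0 : K3)) ≠ 0 := by decide
  by_cases hu : u = 0
  · subst hu
    have hx : x ≠ 0 := fun h => hr (by rw [h]; rfl)
    exact (mv_swap hG 0 x).trans (mv_fst hG hx hone _)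
  · by_cases hx : x = 0
    · subst hx; exact mv_fst hG hu hone _
    · exact ((((((mv_fst hG hu hY x).trans (mv_swap hG _ x)).trans
        (mv_fst hG hx h2 _)).trans (mv_swap hG _ _))).trans (mv_cx hG)).trans
        (mv_fst hG hY hone _)

end Transitive

/-- A member of `G` fixing one nonzero weight line normalises all weight lines. -/
theorem proj_centraliser (hG : Gen q ω G) [Finite F] (hD : Dicho q ω) (hns : NoSU q G) {A : Matrix I9 I9 F}
    (hA : InG G A) {r : W9} (hr : r ≠ 0) {c : F} (e : A * P9 ω r = c • (P9 ω r * A)) :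
    Nrm9 ω A := by
  have base : ∀ {B : Matrix I9 I9 F}, InG G B → ∀ {d : F},
      B * P9 ω ((1, 0), 0) = d • (P9 ω ((1, 0), 0) * B) → Nrm9 ω B := by
    intro B hB d eB
    obtain ⟨t, rfl⟩ := hG.om.exists_wp (conj_cube9 hG.om hB.isUnit eB)
    set u : W9 := ((0, t), 0) with hu
    have hcom : P9 ω u * B * P9 ω ((1, 0), 0) = P9 ω ((1, 0), 0) * (P9 ω u * B) := by
      rw [Matrix.mul_assoc, eB, Matrix.mul_smul, ← Matrix.mul_assoc, P9_comm hG.om u,
        Matrix.smul_mul, smul_smul, ← hG.om.wp_add, Matrix.mul_assoc]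
      have : t + sym9 u (((1 : K3), (0 : K3)), (0 : K3 × K3)) = 0 := by
        simp [sym9, sym, hu]
      rw [this, wp_zero, one_smul]
    have hmem := (hG.P9_mem u).mul hB
    rw [eq_blk_of_commute hG.om hcom] at hmem
    have hn := fix_blk hG hD hns hmem
    rw [← eq_blk_of_commute hG.om hcom] at hn
    obtain ⟨V, -, h1, h2⟩ := (hG.P9_mem u).exists_inv
    have := (Nrm9.of_mul_eq_one hG.om h1 (Nrm9.weight hG.om u)).mul hn
    rwa [← Matrix.mul_assoc, h2, Matrix.one_mul] at this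
  obtain ⟨W, hW, k, hk, eW⟩ := mv_base hG hr
  obtain ⟨V, hV, h1, h2⟩ := hW.1.exists_inv
  have eV : V * P9 ω ((1, 0), 0) = k⁻¹ • (P9 ω r * V) := by
    calc V * P9 ω ((1, 0), 0) = V * (P9 ω ((1, 0), 0) * W) * V := by
          rw [Matrix.mul_assoc, Matrix.mul_assoc, h1, Matrix.mul_one]
      _ = V * (k⁻¹ • (W * P9 ω r)) * V := by
          rw [eW, smul_smul, inv_mul_cancel₀ hk, one_smul]; rfl
      _ = _ := by rw [Matrix.mul_smul, Matrix.smul_mul, ← Matrix.mul_assoc V W, h2, Matrix.one_mul]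
  have hn : Nrm9 ω (W * A * V) := by
    refine base ((hW.1.mul hA).mul hV) (d := c) ?_
    rw [Matrix.mul_assoc, eV, Matrix.mul_smul, ← Matrix.mul_assoc, Matrix.mul_assoc W A, e,
      Matrix.mul_smul, ← Matrix.mul_assoc, eW, Matrix.smul_mul, Matrix.smul_mul, Matrix.smul_mul,
      smul_smul, smul_smul]
    simp only [Matrix.mul_assoc]
    congr 1
    field_simp
  have := ((Nrm9.of_mul_eq_one hG.om h1 hW.2).mul hn).mul hW.2
  simp only [← Matrix.mul_assoc, h2, Matrix.one_mul] at this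
  rwa [Matrix.mul_assoc, h2, Matrix.mul_one] at this

end Cfsg.Agent.CSixNineU
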