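import Cfsg.Agent.CSixNineU.Norml
import Cfsg.Agent.CSixNine.KerK

/-!
The kernel on the three dimensional eigenspace, inside an overgroup of similitudes.
-/

set_option autoImplicit false
set_option linter.unusedSectionVars false

namespace Cfsg.Agent.CSixNineU

open Matrix Cfsg.Agent.CSixNine
open scoped MatrixGroups Matrix Kronecker

variable {F : Type*} [Field F] {q : ℕ} {ω : F} {G : Subgroup (GL I9 F)}

lemma _root_.Cfsg.Agent.CSixNine.K0.conjU (hG : Gen q ω G) {A : Matrix I9 I9 F} (hA : K0 ω G A) {X : Matrix K3 K3 F}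
    (hX : IsUnit X) (hn : Nrm3 ω X) :
    ∃ A', K0 ω G A' ∧ X * aM A = aM A' * X ∧ X * bM A = bM A' * X ∧
      (X ⊗ₖ (1 : Matrix K3 K3 F)) * A = A' * (X ⊗ₖ (1 : Matrix K3 K3 F)) := by
  have hω := hG.om
  have hW := hG.lft_nrm hX hn
  obtain ⟨V, hV, h1, h2⟩ := hW.exists_inv
  have hWk : Ck ω (X ⊗ₖ (1 : Matrix K3 K3 F)) := Ck.left X
  have hVk := hWk.inv h1
  set W := X ⊗ₖ (1 : Matrix K3 K3 F) with hWdef
  have e : W * A = (W * A * V) * W := by
    rw [Matrix.mul_assoc (W * A), h2, Matrix.mul_one]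
  have hk := (hWk.mul hA.2.1).mul hVk
  refine ⟨W * A * V, ⟨(hW.mul hA.1).mul hV, hk, ?_⟩, ?_, ?_, e⟩
  · rw [fM_mul (hWk.1.mul hA.2.1.1) hVk.1, fM_mul hWk.1 hA.2.1.1, hA.2.2, Matrix.mul_one,
      ← fM_mul hWk.1 hVk.1, h1, fM_one]
  · have := congrArg aM e
    rwa [aM_mul hω hWk hA.2.1, aM_mul hω hk hWk, hWdef, aM_left] at this
  · have := congrArg bM e
    rwa [bM_mul hω hWk hA.2.1, bM_mul hω hk hWk, hWdef, bM_left] at this

/-- A weight normalising member of `K0` acts by scalars. -/
theorem k0_form (hG : Gen q ω G) {A : Matrix I9 I9 F} (hA : K0 ω G A) (hn : Nrm9 ω A) :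
    ∃ (σ : F) (t : K3), σ ^ 2 = 1 ∧ aM A = σ • 1 ∧ bM A = (σ * wp ω t) • 1 := by
  have hω := hG.om
  have h2 := hG.two
  obtain ⟨⟨w₁, x, y⟩, c, hc, e⟩ := hn ((0, 0), (0, 1))
  have E : ∀ a b : K3, sub3 A a (b + 1) = (c * wp ω (x * a)) • (P3 ω w₁ * sub3 A (a - y) b) := by
    intro a b
    ext i k
    have h := congrFun (congrFun e (i, a)) (k, b)
    rw [Matrix.mul_apply, Finset.sum_eq_single (k, b + 1), Matrix.smul_apply, Matrix.mul_apply,
      Fintype.sum_prod_type] at h
    · simp only [P9, Matrix.kroneckerMap_apply, P3_zero, Prod.mk_zero_zero, Matrix.one_apply_eq,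
        one_mul, P3_apply, if_true, zero_mul, wp_zero, mul_one] at h
      simp only [sub3, Matrix.of_apply, Matrix.smul_apply, Matrix.mul_apply, P3_apply,
        smul_eq_mul] at h ⊢
      rw [h, mul_assoc]
      congr 1
      rw [Finset.mul_sum]
      refine Finset.sum_congr rfl fun u _ => ?_
      rw [Finset.sum_eq_single (a - y)]
      · rw [if_pos (sub_add_cancel a y).symm]; ring
      · intro v _ hv
        have : a ≠ v + y := fun h => hv (by rw [h]; ring)
        simp [this]
      · simp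
    · rintro ⟨u, v⟩ _ hne
      simp only [P9, Matrix.kroneckerMap_apply, P3_zero, Prod.mk_zero_zero, Matrix.one_apply,
        P3_apply]
      by_cases hu : u = k
      · subst hu; simp [show v ≠ b + 1 from fun h => hne (by rw [h])]
      · simp [hu]
    · simp
  have hz : ∀ a b : K3, ¬ (a = 0 ↔ b = 0) → sub3 A a b = 0 := fun a b h => by
    ext i k; exact hA.2.1.apply hω i k a b h
  have hs : ∀ a b : K3, sub3 A a b = sub3 A (-a) (-b) := fun a b => by
    ext i k; exact hA.2.1.1.apply i k a b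
  have hf : sub3 A 1 1 - sub3 A 1 2 = 1 := hA.2.2
  have h21 : sub3 A 2 1 = sub3 A 1 2 := by
    rw [hs 2 1]; rfl
  have h22 : sub3 A 2 2 = sub3 A 1 1 := by
    rw [hs 2 2]; rfl
  have hP : ∀ k : F, (1 : Matrix K3 K3 F) = k • P3 ω w₁ → P3 ω w₁ = 1 := fun k hk => by
    have hk0 : k ≠ 0 := by rintro rfl; rw [zero_smul] at hk; exact one_ne_zero hk
    have h3 : P3 ω w₁ = k⁻¹ • (1 : Matrix K3 K3 F) := by
      rw [hk, smul_smul, inv_mul_cancel₀ hk0, one_smul]
    rw [P3_ne_smul_one hω h3, P3_zero]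
  have d10 := E 1 0
  have d20 := E 2 0
  rw [zero_add] at d10 d20
  obtain rfl | rfl | rfl := k3_cases y
  · exfalso
    rw [sub_zero, hz 1 0 (by decide), Matrix.mul_zero, smul_zero] at d10
    rw [sub_zero, hz 2 0 (by decide), Matrix.mul_zero, smul_zero, h21] at d20
    rw [d10, d20, sub_zero] at hf
    exact zero_ne_one hf
  · rw [show (2 : K3) - 1 = 1 from by decide, hz 1 0 (by decide), Matrix.mul_zero, smul_zero,
      h21] at d20
    have h11 : sub3 A 1 1 = 1 := by rw [d20, sub_zero] at hf; exact hf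
    have ha : aM A = 1 := by rw [aM, h11, d20, add_zero]
    have d21 := E 2 1
    rw [show (1 : K3) + 1 = 2 from rfl, show (2 : K3) - 1 = 1 from by decide, h22, h11,
      Matrix.mul_one] at d21
    have hP1 := hP _ d21
    have hk : c * wp ω (x * 2) = 1 := by
      have := congrFun (congrFun d21 0) 0
      rw [hP1] at this
      simpa using this.symm
    rw [show (1 : K3) - 1 = 0 from by decide, h11, hP1, Matrix.one_mul, mul_one] at d10
    have hx : wp ω (x * 2) * wp ω x = 1 := by
      rw [← hω.wp_add, show x * 2 + x = 0 from by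
        rw [show x * 2 + x = (3 : K3) * x from by ring, show (3 : K3) = 0 from rfl, zero_mul],
        wp_zero]
    refine ⟨1, x, one_pow 2, by rw [ha, one_smul], ?_⟩
    have h' : c * wp ω x ≠ 0 := mul_ne_zero hc (hω.wp_ne_zero _)
    have e' : bM A = (c * wp ω x)⁻¹ • (1 : Matrix K3 K3 F) := by
      conv_rhs => rw [d10, smul_smul, inv_mul_cancel₀ h', one_smul]
      rfl
    rw [e', one_mul]
    congr 1
    refine inv_eq_of_mul_eq_one_right ?_
    linear_combination (wp ω x) ^ 3 * hk + wp_cube hω x - c * (wp ω x) ^ 2 * hx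
  · rw [show (1 : K3) - 2 = 2 from by decide, hz 2 0 (by decide), Matrix.mul_zero,
      smul_zero] at d10
    have h12 : sub3 A 1 2 = -1 := by rw [d10, zero_sub] at hf; rw [← hf, neg_neg]
    have ha : aM A = -1 := by rw [aM, d10, h12, zero_add]
    have d11 := E 1 1
    rw [show (1 : K3) + 1 = 2 from rfl, show (1 : K3) - 2 = 2 from by decide, h21, h12,
      Matrix.mul_neg, Matrix.mul_one, smul_neg, neg_inj, mul_one] at d11
    have hP1 := hP _ d11
    have hk : c * wp ω x = 1 := by
      have := congrFun (congrFun d11 0) 0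
      rw [hP1] at this
      simpa using this.symm
    rw [show (2 : K3) - 2 = 0 from by decide, h21, h12, hP1, Matrix.one_mul] at d20
    have hx : wp ω (x * 2) * wp ω x = 1 := by
      rw [← hω.wp_add, show x * 2 + x = 0 from by
        rw [show x * 2 + x = (3 : K3) * x from by ring, show (3 : K3) = 0 from rfl, zero_mul],
        wp_zero]
    refine ⟨-1, x * 2, by ring, by rw [ha, neg_smul, one_smul], ?_⟩
    have h' : c * wp ω (x * 2) ≠ 0 := mul_ne_zero hc (hω.wp_ne_zero _)
    have e' : bM A = (c * wp ω (x * 2))⁻¹ • (-1 : Matrix K3 K3 F) := by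
      conv_rhs => rw [d20, smul_smul, inv_mul_cancel₀ h', one_smul]
      rfl
    rw [e', neg_one_mul, smul_neg, neg_smul]
    congr 2
    refine inv_eq_of_mul_eq_one_right ?_
    linear_combination (wp ω (x * 2)) ^ 3 * hk + wp_cube hω (x * 2) -
      c * (wp ω (x * 2)) ^ 2 * hx


end Cfsg.Agent.CSixNineU
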